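import Cfsg.Agent.Lib.Chars.PowerMap
import Cfsg.Agent.Lib.Chars.Galois
import Cfsg.Agent.Lib.Chars.Linear

/-!
Adams operations: composing a character with a power map gives a generalized character, and an
irreducible one for exponents prime to the order of the group.
-/

namespace CfsgLib.Chars

open scoped ComplexConjugate
open Cfsg

universe u

variable {G : Type u} [Group G] [Fintype G]

/-- The multiplicities in `g ↦ χ (g ^ t)` are integers. -/
theorem exists_int_classInner_pow {χ : G → ℂ} (hχ : IsCharacter G χ) {t : ℕ} (ht : 0 < t)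
    (ψ : IrrCharacter G) :
    ∃ n : ℤ, classInner (fun g => χ (g ^ t)) (ψ : G → ℂ) = (n : ℂ) := by
  classical
  have hψ : IsCharacter G fun g => conj ((ψ : G → ℂ) g) :=
    IsIrrCharacter.isCharacter (isIrrCharacter_conj ψ)
  have e : classInner (fun g => χ (g ^ t)) (ψ : G → ℂ) =
      (Nat.card G : ℂ)⁻¹ * ∑ g : G, conj ((ψ : G → ℂ) g) * χ (g ^ t) := by
    simp only [classInner]
    exact congrArg _ (Finset.sum_congr rfl fun g _ => mul_comm _ _)
  rw [e]
  have hint := IsCharacter.isIntegral_avg_mul_pow hψ hχ ht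
  let x : algebraicClosure ℚ ℂ := (Nat.card G : algebraicClosure ℚ ℂ)⁻¹ *
    ∑ g : G, ⟨_, IsCharacter.mem_algebraicClosure hψ g⟩ *
      ⟨χ (g ^ t), IsCharacter.mem_algebraicClosure hχ (g ^ t)⟩
  have hx : (x : ℂ) = (Nat.card G : ℂ)⁻¹ * ∑ g : G, conj ((ψ : G → ℂ) g) * χ (g ^ t) := by
    change (algebraicClosure ℚ ℂ).val x = _
    simp only [x, map_mul, map_inv₀, map_natCast, map_sum]
    rfl
  have hfix : ∀ σ : algebraicClosure ℚ ℂ →ₐ[ℚ] ℂ, σ x = x := by
    intro σ
    obtain ⟨k, hk, hσ⟩ := exists_coprime_pow_embedding (G := G) σ (Nat.card G) Nat.card_pos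
    rw [hx]
    simp only [x, map_mul, map_inv₀, map_natCast, map_sum]
    congr 1
    rw [Finset.sum_congr rfl fun g _ => by
      rw [hσ _ hψ g (orderOf_dvd_natCard g), hσ χ hχ _ (orderOf_dvd_natCard _), ← pow_mul,
        mul_comm t k, pow_mul]]
    exact Fintype.sum_equiv (powCoprime hk.symm) _ _ fun g => by rw [powCoprime_apply]
  obtain ⟨q, hq⟩ := exists_rat_of_fixed hfix
  rw [hx] at hq
  rw [hq] at hint ⊢
  have hqi : IsIntegral ℤ q := by
    refine (isIntegral_algebraMap_iff (R := ℤ) (A := ℚ) (B := ℂ) (algebraMap ℚ ℂ).injective).mp ?_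
    simpa using hint
  obtain ⟨z, hz⟩ := IsIntegrallyClosed.isIntegral_iff.mp hqi
  exact ⟨z, by rw [← hz]; simp⟩

omit [Fintype G] in
theorem isClassFunction_pow {χ : G → ℂ} (hχ : IsClassFunction G χ) (t : ℕ) :
    IsClassFunction G fun g => χ (g ^ t) := fun g h => by
  show χ ((h * g * h⁻¹) ^ t) = χ (g ^ t)
  rw [conj_pow, hχ]

/-- Galois conjugates of irreducible characters are irreducible. -/
theorem isIrrCharacter_pow {k : ℕ} (hk : k.Coprime (Nat.card G)) (χ : IrrCharacter G) :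
    IsIrrCharacter G fun g => (χ : G → ℂ) (g ^ k) := by
  classical
  rcases Nat.eq_zero_or_pos k with rfl | hk0
  · have h1 : Nat.card G = 1 := by simpa using hk
    haveI := (Nat.card_eq_one_iff_unique.mp h1).1
    have e : (fun g => (χ : G → ℂ) (g ^ 0)) = (χ : G → ℂ) :=
      funext fun g => congrArg _ (Subsingleton.elim _ _)
    rw [e]; exact χ.2
  set φ : G → ℂ := fun g => (χ : G → ℂ) (g ^ k) with hφ
  have hcl : IsClassFunction G φ :=
    isClassFunction_pow (IsCharacter.isClassFunction (isCharacter_irr χ)) k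
  choose n hn using exists_int_classInner_pow (isCharacter_irr χ) hk0
  have he : φ = fun x => ∑ ψ : IrrCharacter G, (n ψ : ℂ) * (ψ : G → ℂ) x := by
    funext x
    rw [classFunction_expand hcl x]
    exact Finset.sum_congr rfl fun ψ _ => by rw [hn]
  have hnorm : classInner φ φ = 1 := by
    have := classInner_irr χ χ
    rw [if_pos rfl] at this
    rw [← this, classInner, classInner]
    congr 1
    exact Fintype.sum_equiv (powCoprime hk.symm) _ _ fun g => by rw [powCoprime_apply]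
  have hsq : ∑ ψ : IrrCharacter G, n ψ * n ψ = 1 := by
    have h1 : classInner φ φ = ∑ ψ : IrrCharacter G, (n ψ : ℂ) * classInner (ψ : G → ℂ) φ := by
      conv_lhs => arg 1; rw [he]
      exact classInner_sum _ _ _ _
    have h2 : ∀ ψ : IrrCharacter G, classInner (ψ : G → ℂ) φ = (n ψ : ℂ) := fun ψ => by
      rw [classInner_symm, hn, map_intCast]
    simp only [h2, hnorm] at h1
    have : ((∑ ψ : IrrCharacter G, n ψ * n ψ : ℤ) : ℂ) = ((1 : ℤ) : ℂ) := by
      push_cast; exact h1.symm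
    exact_mod_cast this
  obtain ⟨ψ₀, hψ₀⟩ : ∃ ψ₀, n ψ₀ ≠ 0 := by
    by_contra hne
    push Not at hne
    simp [hne] at hsq
  rw [← Finset.add_sum_erase _ _ (Finset.mem_univ ψ₀)] at hsq
  have h0 : 0 ≤ ∑ ψ ∈ Finset.univ.erase ψ₀, n ψ * n ψ :=
    Finset.sum_nonneg fun ψ _ => mul_self_nonneg _
  have h1 : 1 ≤ n ψ₀ * n ψ₀ := Int.add_one_le_iff.mpr (mul_self_pos.mpr hψ₀)
  have hz : ∀ ψ, ψ ≠ ψ₀ → n ψ = 0 := fun ψ hne => mul_self_eq_zero.mp
    ((Finset.sum_eq_zero_iff_of_nonneg fun x _ => mul_self_nonneg _).mp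
      (by linarith : ∑ ψ ∈ Finset.univ.erase ψ₀, n ψ * n ψ = 0) ψ
      (Finset.mem_erase.mpr ⟨hne, Finset.mem_univ _⟩))
  have hval : ∀ x, φ x = (n ψ₀ : ℂ) * (ψ₀ : G → ℂ) x := by
    intro x
    rw [he]
    dsimp only
    rw [Finset.sum_eq_single ψ₀]
    · intro b _ hb; rw [hz b hb]; simp
    · simp
  have hpos : n ψ₀ = 1 := by
    have hh := hval 1
    simp only [hφ, one_pow, irr_apply_one] at hh
    have hh' : (charDegree (χ : G → ℂ) : ℤ) = n ψ₀ * (charDegree (ψ₀ : G → ℂ) : ℤ) := by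
      exact_mod_cast hh
    have p1 : (0 : ℤ) < charDegree (χ : G → ℂ) := by exact_mod_cast charDegree_pos χ
    have p2 : (0 : ℤ) < charDegree (ψ₀ : G → ℂ) := by exact_mod_cast charDegree_pos ψ₀
    nlinarith
  have : φ = (ψ₀ : G → ℂ) := funext fun x => by rw [hval, hpos, Int.cast_one, one_mul]
  rw [this]
  exact ψ₀.2

/-- The Galois conjugate of an irreducible character. -/
def powIrr {k : ℕ} (hk : k.Coprime (Nat.card G)) (χ : IrrCharacter G) : IrrCharacter G :=
  ⟨fun g => (χ : G → ℂ) (g ^ k), isIrrCharacter_pow hk χ⟩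

end CfsgLib.Chars
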