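import Cfsg.Agent.Lib.Chars.Induced
import Cfsg.Agent.Lib.Chars.Central

/-!
Clifford theory for a normal subgroup.
-/

namespace CfsgLib.Chars

open scoped ComplexConjugate
open Cfsg Module

universe u

variable {G : Type u} [Group G] (N : Subgroup G) [hN : N.Normal]

/-- The automorphism `n ↦ g n g⁻¹` of a normal subgroup. -/
def conjN (g : G) : N ≃* N := MulAut.conjNormal g

theorem conjN_coe (g : G) (n : N) : ((conjN N g n : N) : G) = g * n * g⁻¹ :=
  MulAut.conjNormal_apply g n

/-- The conjugate of a character of `N`: `n ↦ θ (g n g⁻¹)`. -/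
def conjIrr (θ : IrrCharacter N) (g : G) : IrrCharacter N :=
  ⟨fun n => (θ : N → ℂ) (conjN N g n),
    IsIrrCharacter.comp θ.2 (conjN N g).toMonoidHom (conjN N g).surjective⟩

theorem conjIrr_apply (θ : IrrCharacter N) (g : G) (n : N) :
    (conjIrr N θ g : N → ℂ) n = (θ : N → ℂ) (conjN N g n) := rfl

theorem conjIrr_apply' (θ : IrrCharacter N) (g : G) (n : N) :
    (conjIrr N θ g : N → ℂ) n = (θ : N → ℂ) ⟨g * n * g⁻¹, hN.conj_mem n n.2 g⟩ :=
  congrArg (θ : N → ℂ) (Subtype.ext (conjN_coe N g n))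

theorem conjN_one (n : N) : conjN N 1 n = n := by
  apply Subtype.ext; rw [conjN_coe]; simp

theorem conjIrr_one (θ : IrrCharacter N) : conjIrr N θ 1 = θ := by
  apply Subtype.ext; funext n; rw [conjIrr_apply, conjN_one]

theorem conjN_mul (g h : G) (n : N) : conjN N g (conjN N h n) = conjN N (g * h) n := by
  apply Subtype.ext; simp only [conjN_coe]; group

theorem conjIrr_mul (θ : IrrCharacter N) (g h : G) :
    conjIrr N θ (g * h) = conjIrr N (conjIrr N θ g) h := by
  apply Subtype.ext; funext n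
  simp only [conjIrr_apply, conjN_mul]

theorem charDegree_conjIrr (θ : IrrCharacter N) (g : G) :
    charDegree (conjIrr N θ g : N → ℂ) = charDegree (θ : N → ℂ) := by
  simp [charDegree, conjIrr_apply]

variable [Fintype G] [Fintype N]

theorem classInner_conjN (φ ψ : N → ℂ) (g : G) :
    classInner (fun n => φ (conjN N g n)) (fun n => ψ (conjN N g n)) = classInner φ ψ := by
  simp only [classInner]
  congr 1
  exact Fintype.sum_equiv (conjN N g).toEquiv _ _ fun n => rfl

theorem classInner_res_conjIrr (χ : G → ℂ) (hχ : IsClassFunction G χ) (θ : IrrCharacter N)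
    (g : G) :
    classInner (fun n : N => χ n) (conjIrr N θ g : N → ℂ) =
      classInner (fun n : N => χ n) (θ : N → ℂ) := by
  rw [← classInner_conjN N (fun n : N => χ n) (θ : N → ℂ) g]
  congr 1
  funext n
  rw [conjN_coe, hχ (n : G) g]

/-- The restriction to `N` of a function induced from `N`. -/
theorem indFun_res (θ : N → ℂ) (n : N) :
    indFun N θ (n : G) = (Nat.card N : ℂ)⁻¹ * ∑ x : G, θ (conjN N x⁻¹ n) := by
  simp only [indFun]
  congr 1
  refine Finset.sum_congr rfl fun x _ => ?_
  rw [← extendByZero_coe N θ (conjN N x⁻¹ n), conjN_coe, inv_inv]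

/-- The constituents of the restriction of an irreducible character are conjugate. -/
theorem clifford_conjugate (χ : IrrCharacter G) (θ ψ : IrrCharacter N)
    (hθ : classInner (fun n : N => (χ : G → ℂ) n) (θ : N → ℂ) ≠ 0)
    (hψ : classInner (fun n : N => (χ : G → ℂ) n) (ψ : N → ℂ) ≠ 0) :
    ∃ g : G, ψ = conjIrr N θ g := by
  classical
  by_contra hne
  push Not at hne
  have hΘ : IsCharacter G (indFun N (θ : N → ℂ)) := IsCharacter.indFun N (isCharacter_irr θ)
  choose a ha using exists_mult hΘ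
  have hzero : classInner (fun n : N => indFun N (θ : N → ℂ) n) (ψ : N → ℂ) = 0 := by
    simp only [indFun_res, Finset.mul_sum]
    rw [classInner_sum]
    refine Finset.sum_eq_zero fun x _ => ?_
    rw [show (fun g : N => (θ : N → ℂ) (conjN N x⁻¹ g)) = (conjIrr N θ x⁻¹ : N → ℂ) from rfl,
      classInner_irr, if_neg (Ne.symm (hne x⁻¹)), mul_zero]
  have hex : (fun n : N => indFun N (θ : N → ℂ) n) =
      fun n : N => ∑ η : IrrCharacter G, (a η : ℂ) * (η : G → ℂ) n := by
    funext n
    rw [classFunction_expand (indFun_isClassFunction N _) (n : G)]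
    simp [ha]
  rw [hex, classInner_sum Finset.univ (fun η : IrrCharacter G => (a η : ℂ))
    (fun η : IrrCharacter G => fun n : N => (η : G → ℂ) n)] at hzero
  choose b hb using fun η : IrrCharacter G =>
    exists_mult (IsCharacter.restrict (isCharacter_irr η) N) ψ
  simp_rw [hb] at hzero
  have hnat : ∑ η : IrrCharacter G, a η * b η = 0 := by exact_mod_cast hzero
  have h0 := Finset.sum_eq_zero_iff.mp hnat χ (Finset.mem_univ _)
  rcases Nat.mul_eq_zero.mp h0 with h | h
  · apply hθ
    rw [classInner_character_comm (IsCharacter.restrict (isCharacter_irr χ) N)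
      (isCharacter_irr θ), ← frobenius N (θ : N → ℂ)
      (IsCharacter.isClassFunction (isCharacter_irr χ)), ha, h, Nat.cast_zero]
  · exact hψ (by rw [hb, h, Nat.cast_zero])

/-- There is a constituent of the restriction. -/
theorem exists_constituent {φ : N → ℂ} (hφ : IsCharacter N φ) (h : φ 1 ≠ 0) :
    ∃ θ : IrrCharacter N, classInner φ (θ : N → ℂ) ≠ 0 := by
  by_contra hne
  push Not at hne
  apply h
  rw [classFunction_expand (IsCharacter.isClassFunction hφ) 1]
  simp [hne]

theorem exists_res_constituent (χ : IrrCharacter G) :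
    ∃ θ : IrrCharacter N, classInner (fun n : N => (χ : G → ℂ) n) (θ : N → ℂ) ≠ 0 :=
  exists_constituent N (IsCharacter.restrict (isCharacter_irr χ) N) (irr_one_ne_zero χ)

open Classical in
/-- The conjugates of `θ`. -/
noncomputable def orbit (θ : IrrCharacter N) : Finset (IrrCharacter N) :=
  Finset.univ.image fun g : G => conjIrr N θ g

theorem mem_orbit {θ ψ : IrrCharacter N} : ψ ∈ orbit N θ ↔ ∃ g : G, ψ = conjIrr N θ g := by
  simp [orbit, eq_comm]

/-- Clifford's theorem. -/
theorem clifford (χ : IrrCharacter G) (θ : IrrCharacter N)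
    (hθ : classInner (fun n : N => (χ : G → ℂ) n) (θ : N → ℂ) ≠ 0) :
    ∃ e : ℕ, 0 < e ∧ classInner (fun n : N => (χ : G → ℂ) n) (θ : N → ℂ) = (e : ℂ) ∧
      (∀ n : N, (χ : G → ℂ) n = (e : ℂ) * ∑ ψ ∈ orbit N θ, (ψ : N → ℂ) n) ∧
      charDegree (χ : G → ℂ) = e * (orbit N θ).card * charDegree (θ : N → ℂ) := by
  classical
  obtain ⟨e, he⟩ := exists_mult (IsCharacter.restrict (isCharacter_irr χ) N) θ
  have he0 : e ≠ 0 := fun h => hθ (by rw [he, h, Nat.cast_zero])
  have hval : ∀ n : N, (χ : G → ℂ) n = (e : ℂ) * ∑ ψ ∈ orbit N θ, (ψ : N → ℂ) n := by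
    intro n
    rw [Finset.mul_sum,
      classFunction_expand (IsCharacter.isClassFunction
        (IsCharacter.restrict (isCharacter_irr χ) N)) n,
      ← Finset.sum_subset (Finset.subset_univ (orbit N θ))]
    · refine Finset.sum_congr rfl fun ψ hψ => ?_
      obtain ⟨g, rfl⟩ := (mem_orbit N).mp hψ
      rw [classInner_res_conjIrr N _ (IsCharacter.isClassFunction (isCharacter_irr χ)), he]
    · intro ψ _ hψ
      by_cases h : classInner (fun n : N => (χ : G → ℂ) n) (ψ : N → ℂ) = 0
      · rw [h, zero_mul]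
      · exact absurd ((mem_orbit N).mpr (clifford_conjugate N χ θ ψ hθ h)) hψ
  refine ⟨e, Nat.pos_of_ne_zero he0, he, hval, ?_⟩
  have h1 := hval 1
  have hsum : ∑ ψ ∈ orbit N θ, (ψ : N → ℂ) 1 =
      ((orbit N θ).card : ℂ) * (charDegree (θ : N → ℂ) : ℂ) := by
    rw [Finset.sum_congr rfl (fun ψ hψ => ?_), Finset.sum_const, nsmul_eq_mul]
    obtain ⟨g, rfl⟩ := (mem_orbit N).mp hψ
    rw [irr_apply_one, charDegree_conjIrr]
  rw [hsum, OneMemClass.coe_one, irr_apply_one] at h1
  have h2 : (charDegree (χ : G → ℂ) : ℂ) =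
      ((e * (orbit N θ).card * charDegree (θ : N → ℂ) : ℕ) : ℂ) := by
    rw [h1]; push_cast; ring
  exact_mod_cast h2

end CfsgLib.Chars
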