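import Cfsg.Agent.Lib.Blocks.DefectClass
import Cfsg.Agent.Lib.Chars.Induced
import Cfsg.Agent.Lib.Chars.Misc

/-!
The Glauberman correspondence for a `p`-group acting on a group of order prime to `p`.
-/

set_option autoImplicit false
set_option linter.style.haveILetI false

namespace CfsgLib.Chars.Glauberman

open scoped ComplexConjugate
open Cfsg CfsgLib.Chars CfsgLib.Blocks

universe u v w

/-- `C` is the fixed-point group of the action `φ`, embedded by `ι`. -/
structure Setting (G : Type u) (C : Type v) (S : Type w) [Group G] [Group C] [Group S] (p : ℕ) where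
  φ : S →* MulAut G
  ι : C →* G
  inj : Function.Injective ι
  mem : ∀ g : G, (∀ s, φ s g = g) ↔ ∃ c, ι c = g
  pgroup : IsPGroup p S
  prime : p.Prime
  ndvd : ¬ p ∣ Nat.card G

variable {G : Type u} {C : Type v} {S : Type w} [Group G] [Group C] [Group S] {p : ℕ}
  {M : Ideal AlgInt}

/-- Invariance of a function. -/
def IsInv (φ : S →* MulAut G) (f : G → ℂ) : Prop := ∀ s g, f (φ s g) = f g

variable (h : Setting G C S p)
include h

theorem Setting.fix (c : C) (s : S) : h.φ s (h.ι c) = h.ι c := (h.mem _).mpr ⟨c, rfl⟩ s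

theorem Setting.finite [Finite G] : Finite C := Finite.of_injective h.ι h.inj

variable [Fintype G] [Fintype C]

/-- Sums of invariant functions reduce to the fixed points. -/
theorem mli_sum_fixed (hM : IsPModular p M) {f : G → ℂ} (hf : IsInv h.φ f)
    (hl : ∀ g, MemLocalRing M (f g)) :
    MemLocalIdeal M (∑ g : G, f g - ∑ c : C, f (h.ι c)) := by
  classical
  letI : MulAction S G := MulAction.compHom G h.φ
  set f' : G → ℂ := fun g => if (∀ s, h.φ s g = g) then 0 else f g with hf'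
  have e : ∑ g : G, f g - ∑ c : C, f (h.ι c) = ∑ g : G, f' g := by
    have e1 : ∑ c : C, f (h.ι c) = ∑ g : G, if (∀ s, h.φ s g = g) then f g else 0 := by
      rw [← Finset.sum_filter]
      refine Finset.sum_bij (fun c _ => h.ι c)
        (fun c _ => Finset.mem_filter.mpr ⟨Finset.mem_univ _, h.fix c⟩)
        (fun a _ b _ hab => h.inj hab) (fun g hg => ?_) (fun _ _ => rfl)
      obtain ⟨c, hc⟩ := (h.mem g).mp (Finset.mem_filter.mp hg).2
      exact ⟨c, Finset.mem_univ _, hc⟩
    rw [e1, ← Finset.sum_sub_distrib]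
    refine Finset.sum_congr rfl fun g _ => ?_
    simp only [hf']
    split_ifs <;> simp
  rw [e]
  refine mli_sum_of_no_fixed hM h.pgroup (fun s g => ?_) (fun g => ?_) (fun g hg => ?_)
  · simp only [hf']
    change (if ∀ t, h.φ t (h.φ s g) = h.φ s g then (0 : ℂ) else f (h.φ s g)) = _
    rw [hf s g]
    refine if_congr ⟨fun ht t => ?_, fun ht t => ?_⟩ rfl rfl
    · have h1 := ht (s * t * s⁻¹)
      rw [← MulAut.mul_apply, ← map_mul, inv_mul_cancel_right, map_mul, MulAut.mul_apply] at h1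
      exact (h.φ s).injective h1
    · rw [ht s, ht t]
  · simp only [hf']
    split_ifs
    · exact mlr_zero hM
    · exact hl g
  · simp only [hf']
    rw [if_pos (show ∀ s, h.φ s g = g from hg)]
    exact mli_zero hM

theorem mli_card (hM : IsPModular p M) :
    MemLocalIdeal M ((Nat.card G : ℂ) - (Nat.card C : ℂ)) := by
  have := mli_sum_fixed h hM (f := fun _ => (1 : ℂ)) (fun _ _ => rfl) fun _ => mlr_one hM
  simpa [Nat.card_eq_fintype_card] using this

omit [Fintype C] in
theorem card_dvd [Finite C] : Nat.card C ∣ Nat.card G :=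
  Subgroup.card_dvd_of_injective h.ι h.inj

/-- Conjugacy of fixed points inside the whole group is conjugacy in the fixed-point group. -/
theorem isConj_iff_fixed (c c' : C) : IsConj (h.ι c) (h.ι c') ↔ IsConj c c' := by
  haveI : Fact p.Prime := ⟨h.prime⟩
  refine ⟨fun hc => ?_, fun hc => h.ι.map_isConj hc⟩
  obtain ⟨g₀, hg₀⟩ := isConj_iff.mp hc
  letI : MulAction S {g : G // g * h.ι c * g⁻¹ = h.ι c'} :=
    { smul := fun s g => ⟨h.φ s g.1, by
        have h1 := congrArg (h.φ s) g.2
        rwa [map_mul, map_mul, map_inv, h.fix, h.fix] at h1⟩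
      one_smul := fun g => Subtype.ext (show h.φ 1 g.1 = g.1 by rw [map_one]; rfl)
      mul_smul := fun s t g => Subtype.ext (show h.φ (s * t) g.1 = h.φ s (h.φ t g.1) by
        rw [map_mul, MulAut.mul_apply]) }
  have hcard : Nat.card {g : G // g * h.ι c * g⁻¹ = h.ι c'} =
      Nat.card (Subgroup.centralizer ({h.ι c} : Set G)) := by
    refine Nat.card_congr ((Equiv.mulLeft g₀⁻¹).subtypeEquiv fun g => ?_)
    simp only [Equiv.coe_mulLeft, Subgroup.mem_centralizer_singleton_iff]
    rw [← hg₀]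
    constructor
    · intro e
      calc g₀⁻¹ * g * h.ι c = g₀⁻¹ * (g * h.ι c * g⁻¹) * g := by group
        _ = g₀⁻¹ * (g₀ * h.ι c * g₀⁻¹) * g := by rw [e]
        _ = h.ι c * (g₀⁻¹ * g) := by group
    · intro e
      calc g * h.ι c * g⁻¹ = g₀ * (g₀⁻¹ * g * h.ι c) * g⁻¹ := by group
        _ = g₀ * (h.ι c * (g₀⁻¹ * g)) * g⁻¹ := by rw [e]
        _ = g₀ * h.ι c * g₀⁻¹ := by group
  have hnd : ¬ p ∣ Nat.card {g : G // g * h.ι c * g⁻¹ = h.ι c'} := fun hd => by
    rw [hcard] at hd
    exact h.ndvd (hd.trans (Subgroup.card_subgroup_dvd_card _))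
  obtain ⟨⟨g, hg⟩, hfix⟩ := h.pgroup.nonempty_fixed_point_of_prime_not_dvd_card _ hnd
  obtain ⟨z, rfl⟩ := (h.mem g).mp fun s => congrArg Subtype.val (hfix s)
  refine isConj_iff.mpr ⟨z, h.inj ?_⟩
  rw [map_mul, map_mul, map_inv, hg]

/-- Centralizers of fixed points. -/
theorem mli_card_centralizer (hM : IsPModular p M) (c : C) :
    MemLocalIdeal M ((Nat.card (Subgroup.centralizer ({h.ι c} : Set G)) : ℂ) -
      (Nat.card (Subgroup.centralizer ({c} : Set C)) : ℂ)) := by
  classical
  have := mli_sum_fixed h hM (f := fun g => if Commute g (h.ι c) then (1 : ℂ) else 0) (fun s g => by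
    refine if_congr ⟨fun hg => ?_, fun hg => ?_⟩ rfl rfl
    · refine (h.φ s).injective ?_
      rw [map_mul, map_mul, h.fix]
      exact hg.eq
    · have h1 := congrArg (h.φ s) hg.eq
      rwa [map_mul, map_mul, h.fix] at h1) (fun g => by
    split_ifs
    · exact mlr_one hM
    · exact mlr_zero hM)
  convert this using 2
  · rw [Finset.sum_boole, Nat.card_eq_fintype_card, Fintype.card_of_subtype]
    intro x
    rw [Finset.mem_filter, and_iff_right (Finset.mem_univ _)]
    exact Subgroup.mem_centralizer_singleton_iff.symm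
  · rw [Finset.sum_boole, Nat.card_eq_fintype_card, Fintype.card_of_subtype]
    intro x
    rw [Finset.mem_filter, and_iff_right (Finset.mem_univ _), Subgroup.mem_centralizer_singleton_iff]
    exact ⟨fun e => h.inj (by rw [map_mul, map_mul]; exact e),
      fun e => by rw [Commute, SemiconjBy, ← map_mul, ← map_mul, e]⟩

/-- The character transported by an element of the acting group. -/
noncomputable def twist (χ : IrrCharacter G) (s : S) : IrrCharacter G :=
  ⟨fun g => (χ : G → ℂ) (h.φ s g),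
    IsIrrCharacter.comp χ.2 (h.φ s).toMonoidHom (h.φ s).surjective⟩

/-- Sums over the characters reduce to the invariant ones. -/
theorem mli_sum_inv (hM : IsPModular p M) [DecidablePred fun χ : IrrCharacter G => IsInv h.φ (χ : G → ℂ)]
    {F : IrrCharacter G → ℂ} (hF : ∀ χ s, F (twist h χ s) = F χ)
    (hl : ∀ χ, MemLocalRing M (F χ)) :
    MemLocalIdeal M (∑ χ : IrrCharacter G, F χ -
      ∑ χ ∈ Finset.univ.filter (fun χ : IrrCharacter G => IsInv h.φ (χ : G → ℂ)), F χ) := by
  classical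
  letI : MulAction S (IrrCharacter G) :=
    { smul := fun s χ => twist h χ s⁻¹
      one_smul := fun χ => Subtype.ext (funext fun g =>
        show (χ : G → ℂ) (h.φ (1 : S)⁻¹ g) = _ by rw [inv_one, map_one]; rfl)
      mul_smul := fun s t χ => Subtype.ext (funext fun g =>
        show (χ : G → ℂ) (h.φ (s * t)⁻¹ g) = (χ : G → ℂ) (h.φ t⁻¹ (h.φ s⁻¹ g)) by
          rw [mul_inv_rev, map_mul, MulAut.mul_apply]) }
  set F' : IrrCharacter G → ℂ := fun χ => if IsInv h.φ (χ : G → ℂ) then 0 else F χ with hF'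
  have e : ∑ χ : IrrCharacter G, F χ -
      ∑ χ ∈ Finset.univ.filter (fun χ : IrrCharacter G => IsInv h.φ (χ : G → ℂ)), F χ =
        ∑ χ, F' χ := by
    rw [Finset.sum_filter, ← Finset.sum_sub_distrib]
    refine Finset.sum_congr rfl fun χ _ => ?_
    simp only [hF']
    split_ifs <;> simp
  rw [e]
  refine mli_sum_of_no_fixed hM h.pgroup (fun s χ => ?_) (fun χ => ?_) (fun χ hχ => ?_)
  · simp only [hF']
    change (if IsInv h.φ (twist h χ s⁻¹ : G → ℂ) then (0 : ℂ) else F (twist h χ s⁻¹)) = _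
    rw [hF]
    refine if_congr ⟨fun ht t g => ?_, fun ht t g => ?_⟩ rfl rfl
    · have h1 := ht (s * t * s⁻¹) (h.φ s g)
      simp only [twist] at h1
      rw [← MulAut.mul_apply, ← MulAut.mul_apply, ← map_mul, ← map_mul, ← MulAut.mul_apply,
        ← map_mul, show s⁻¹ * (s * t * s⁻¹) * s = t by group, inv_mul_cancel, map_one] at h1
      exact h1
    · change (χ : G → ℂ) (h.φ s⁻¹ (h.φ t g)) = (χ : G → ℂ) (h.φ s⁻¹ g)
      rw [ht, ht, ht]
  · simp only [hF']
    split_ifs
    · exact mlr_zero hM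
    · exact hl χ
  · simp only [hF']
    have hinv : IsInv h.φ (χ : G → ℂ) := fun t g => ?_
    rw [if_pos hinv]
    · exact mli_zero hM
    · have h1 := congrArg (fun θ : IrrCharacter G => (θ : G → ℂ) g)
        (show twist h χ t⁻¹⁻¹ = χ from hχ t⁻¹)
      simpa [twist] using h1

/-- The multiplicity of `β` in the restriction of `χ`. -/
noncomputable def mult (χ : IrrCharacter G) (β : IrrCharacter C) : ℕ :=
  (exists_mult (IsCharacter.comp (isCharacter_irr χ) h.ι) β).choose

theorem mult_spec (χ : IrrCharacter G) (β : IrrCharacter C) :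
    classInner (fun c : C => (χ : G → ℂ) (h.ι c)) (β : C → ℂ) = (mult h χ β : ℂ) :=
  (exists_mult (IsCharacter.comp (isCharacter_irr χ) h.ι) β).choose_spec

theorem mult_mul (χ : IrrCharacter G) (β β' : IrrCharacter C) :
    ((mult h χ β * mult h χ β' : ℕ) : ℂ) = (Nat.card C : ℂ)⁻¹ * (Nat.card C : ℂ)⁻¹ *
      ∑ c : C, ∑ c' : C, conj ((β : C → ℂ) c) * (β' : C → ℂ) c' *
        ((χ : G → ℂ) (h.ι c) * conj ((χ : G → ℂ) (h.ι c'))) := by
  rw [Nat.cast_mul]
  conv_lhs => rw [← Complex.conj_natCast (mult h χ β')]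
  rw [← mult_spec, ← mult_spec, classInner, classInner]
  simp only [map_mul, map_inv₀, map_natCast, map_sum, Complex.conj_conj]
  rw [mul_mul_mul_comm, Finset.sum_mul_sum]
  congr 1
  exact Finset.sum_congr rfl fun c _ => Finset.sum_congr rfl fun c' _ => by ring

/-- Column relations. -/
theorem mli_col (hM : IsPModular p M)
    [DecidablePred fun χ : IrrCharacter G => IsInv h.φ (χ : G → ℂ)]
    [DecidableEq (IrrCharacter C)] (β β' : IrrCharacter C) :
    MemLocalIdeal M ((∑ χ ∈ Finset.univ.filter (fun χ : IrrCharacter G => IsInv h.φ (χ : G → ℂ)),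
      ((mult h χ β * mult h χ β' : ℕ) : ℂ)) - if β = β' then 1 else 0) := by
  classical
  set I := Finset.univ.filter (fun χ : IrrCharacter G => IsInv h.φ (χ : G → ℂ))
  have hlC : ∀ (θ : IrrCharacter C) (c : C), MemLocalRing M ((θ : C → ℂ) c) := fun θ c =>
    mlr_of_isIntegral hM (IsCharacter.isIntegral (isCharacter_irr θ) c)
  have hlCc : ∀ (θ : IrrCharacter C) (c : C), MemLocalRing M (conj ((θ : C → ℂ) c)) := fun θ c =>
    mlr_of_isIntegral hM (IsCharacter.isIntegral (IsIrrCharacter.isCharacter (isIrrCharacter_conj θ)) c)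
  have hpair : ∀ c c' : C, MemLocalIdeal M ((∑ χ ∈ I, (χ : G → ℂ) (h.ι c) * conj ((χ : G → ℂ) (h.ι c'))) -
      ∑ γ : IrrCharacter C, (γ : C → ℂ) c * conj ((γ : C → ℂ) c')) := by
    intro c c'
    have h1 := mli_sum_inv h hM
      (F := fun χ : IrrCharacter G => (χ : G → ℂ) (h.ι c) * conj ((χ : G → ℂ) (h.ι c')))
      (fun χ s => by simp only [twist, h.fix])
      (fun χ => mlr_mul hM (mlr_of_isIntegral hM (IsCharacter.isIntegral (isCharacter_irr χ) _))
        (mlr_of_isIntegral hM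
          (IsCharacter.isIntegral (IsIrrCharacter.isCharacter (isIrrCharacter_conj χ)) _)))
    have h2 : MemLocalIdeal M ((∑ χ : IrrCharacter G, (χ : G → ℂ) (h.ι c) * conj ((χ : G → ℂ) (h.ι c'))) -
        ∑ γ : IrrCharacter C, (γ : C → ℂ) c * conj ((γ : C → ℂ) c')) := by
      rw [col_orth, col_orth]
      by_cases hc : IsConj c' c
      · rw [if_pos ((isConj_iff_fixed h c' c).mpr hc), if_pos hc]
        exact mli_card_centralizer h hM c'
      · rw [if_neg fun e => hc ((isConj_iff_fixed h c' c).mp e), if_neg hc, sub_zero]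
        exact mli_zero hM
    have h3 := mli_sub hM h2 h1
    convert h3 using 1
    ring
  have hδ : (if β = β' then (1 : ℂ) else 0) = (Nat.card C : ℂ)⁻¹ * (Nat.card C : ℂ)⁻¹ *
      ∑ c : C, ∑ c' : C, conj ((β : C → ℂ) c) * (β' : C → ℂ) c' *
        ∑ γ : IrrCharacter C, (γ : C → ℂ) c * conj ((γ : C → ℂ) c') := by
    have e : ∀ γ : IrrCharacter C, classInner (γ : C → ℂ) (β : C → ℂ) * conj (classInner (γ : C → ℂ) (β' : C → ℂ)) =
        (Nat.card C : ℂ)⁻¹ * (Nat.card C : ℂ)⁻¹ * ∑ c : C, ∑ c' : C,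
          conj ((β : C → ℂ) c) * (β' : C → ℂ) c' * ((γ : C → ℂ) c * conj ((γ : C → ℂ) c')) := fun γ => by
      rw [classInner, classInner]
      simp only [map_mul, map_inv₀, map_natCast, map_sum, Complex.conj_conj]
      rw [mul_mul_mul_comm, Finset.sum_mul_sum]
      congr 1
      exact Finset.sum_congr rfl fun c _ => Finset.sum_congr rfl fun c' _ => by ring
    have e' : ∑ γ : IrrCharacter C, classInner (γ : C → ℂ) (β : C → ℂ) * conj (classInner (γ : C → ℂ) (β' : C → ℂ)) =
        if β = β' then (1 : ℂ) else 0 := by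
      rw [Finset.sum_eq_single β]
      · rw [classInner_irr, classInner_irr, if_pos rfl, one_mul]
        split_ifs <;> simp
      · intro γ _ hne
        rw [classInner_irr, if_neg hne, zero_mul]
      · simp
    rw [← e', Finset.sum_congr rfl fun γ _ => e γ, ← Finset.mul_sum]
    congr 1
    rw [Finset.sum_comm]
    refine Finset.sum_congr rfl fun c _ => ?_
    rw [Finset.sum_comm]
    exact Finset.sum_congr rfl fun c' _ => by rw [Finset.mul_sum]
  have hI : ∑ χ ∈ I, ((mult h χ β * mult h χ β' : ℕ) : ℂ) = (Nat.card C : ℂ)⁻¹ * (Nat.card C : ℂ)⁻¹ *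
      ∑ c : C, ∑ c' : C, conj ((β : C → ℂ) c) * (β' : C → ℂ) c' *
        ∑ χ ∈ I, (χ : G → ℂ) (h.ι c) * conj ((χ : G → ℂ) (h.ι c')) := by
    rw [Finset.sum_congr rfl fun χ _ => mult_mul h χ β β', ← Finset.mul_sum]
    congr 1
    rw [Finset.sum_comm]
    refine Finset.sum_congr rfl fun c _ => ?_
    rw [Finset.sum_comm]
    exact Finset.sum_congr rfl fun c' _ => by rw [Finset.mul_sum]
  rw [hI, hδ, ← mul_sub, ← Finset.sum_sub_distrib]
  have hinv : MemLocalRing M (Nat.card C : ℂ)⁻¹ :=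
    mlr_natCast_inv hM fun hd => h.ndvd (hd.trans (card_dvd h))
  refine mli_mul_left hM (mlr_mul hM hinv hinv) (mli_sum hM _ fun c _ => ?_)
  rw [← Finset.sum_sub_distrib]
  refine mli_sum hM _ fun c' _ => ?_
  rw [← mul_sub]
  exact mli_mul_left hM (mlr_mul hM (hlCc β c) (hlC β' c')) (hpair c c')

/-- Every invariant character has a constituent of multiplicity prime to `p`. -/
theorem exists_mult_not_dvd (hM : IsPModular p M) {χ : IrrCharacter G}
    (hχ : IsInv h.φ (χ : G → ℂ)) : ∃ β : IrrCharacter C, ¬ p ∣ mult h χ β := by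
  classical
  by_contra hn
  push Not at hn
  refine h.ndvd ((mli_natCast_iff hM _).mp ?_)
  have hl : ∀ g, MemLocalRing M ((χ : G → ℂ) g) := fun g =>
    mlr_of_isIntegral hM (IsCharacter.isIntegral (isCharacter_irr χ) g)
  have hlc : ∀ g, MemLocalRing M (conj ((χ : G → ℂ) g)) := fun g =>
    mlr_of_isIntegral hM (IsCharacter.isIntegral (IsIrrCharacter.isCharacter (isIrrCharacter_conj χ)) g)
  have h1 := mli_sum_fixed h hM (f := fun g => (χ : G → ℂ) g * conj ((χ : G → ℂ) g))
    (fun s g => by simp only [hχ s g]) (fun g => mlr_mul hM (hl g) (hlc g))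
  have h2 := sum_mul_conj_irr χ χ
  rw [if_pos rfl] at h2
  rw [h2] at h1
  have hcl : IsClassFunction C (fun c : C => (χ : G → ℂ) (h.ι c)) :=
    IsCharacter.isClassFunction (IsCharacter.comp (isCharacter_irr χ) h.ι)
  have h3 : MemLocalIdeal M (∑ c : C, (χ : G → ℂ) (h.ι c) * conj ((χ : G → ℂ) (h.ι c))) := by
    refine mli_sum hM _ fun c _ => mli_mul_right hM ?_ (hlc _)
    rw [show (χ : G → ℂ) (h.ι c) = _ from classFunction_expand hcl c]
    refine mli_sum hM _ fun γ _ => mli_mul_right hM ?_ (mlr_of_isIntegral hM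
      (IsCharacter.isIntegral (isCharacter_irr γ) c))
    rw [mult_spec]
    exact (mli_natCast_iff hM _).mpr (hn γ)
  have := mli_add hM h1 h3
  rwa [sub_add_cancel] at this

/-- The idempotent of an invariant character on the fixed points. -/
noncomputable def idem (χ : IrrCharacter G) (c : C) : ℂ :=
  (Nat.card G : ℂ)⁻¹ * ((χ : G → ℂ) 1 * conj ((χ : G → ℂ) (h.ι c)))

theorem idem_isClassFunction (χ : IrrCharacter G) : IsClassFunction C (idem h χ) := fun a z => by
  simp only [idem, map_mul, map_inv]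
  rw [IsCharacter.isClassFunction (isCharacter_irr χ) (h.ι a) (h.ι z)]

theorem omega_idem (χ : IrrCharacter G) (β : IrrCharacter C) :
    omega (β : C → ℂ) (idem h χ) * ((Nat.card G : ℂ) * (β : C → ℂ) 1) =
      (χ : G → ℂ) 1 * (Nat.card C : ℂ) * (mult h χ β : ℂ) := by
  have e : (mult h χ β : ℂ) = (Nat.card C : ℂ)⁻¹ *
      ∑ c : C, (β : C → ℂ) c * conj ((χ : G → ℂ) (h.ι c)) := by
    rw [← mult_spec, classInner_character_comm (IsCharacter.comp (isCharacter_irr χ) h.ι)
      (isCharacter_irr β)]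
    rfl
  rw [e, omega, idem_def_sum]
  have h1 := irr_one_ne_zero β
  have h2 := natCast_card_ne_zero C
  have h3 := natCast_card_ne_zero G
  field_simp
where
  idem_def_sum : ∑ c : C, idem h χ c * (β : C → ℂ) c = (Nat.card G : ℂ)⁻¹ * (χ : G → ℂ) 1 *
      ∑ c : C, (β : C → ℂ) c * conj ((χ : G → ℂ) (h.ι c)) := by
    rw [Finset.mul_sum]
    exact Finset.sum_congr rfl fun c _ => by rw [idem]; ring

/-- Distinct invariant characters share no constituent of multiplicity prime to `p`. -/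
theorem eq_of_mult (hM : IsPModular p M) {χ χ' : IrrCharacter G} (hχ : IsInv h.φ (χ : G → ℂ))
    (hχ' : IsInv h.φ (χ' : G → ℂ)) {β : IrrCharacter C} (hm : ¬ p ∣ mult h χ β)
    (hm' : ¬ p ∣ mult h χ' β) : χ = χ' := by
  classical
  by_contra hne
  have hGi : MemLocalRing M (Nat.card G : ℂ)⁻¹ := mlr_natCast_inv hM h.ndvd
  let f : IrrCharacter G → G → ℂ := fun θ g =>
    (Nat.card G : ℂ)⁻¹ * ((θ : G → ℂ) 1 * conj ((θ : G → ℂ) g))
  have hfl : ∀ θ g, MemLocalRing M (f θ g) := fun θ g =>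
    mlr_mul hM hGi (mlr_mul hM (mlr_of_isIntegral hM (IsCharacter.isIntegral (isCharacter_irr θ) 1))
      (mlr_of_isIntegral hM (IsCharacter.isIntegral (IsIrrCharacter.isCharacter (isIrrCharacter_conj θ)) g)))
  have hcoeff : ∀ θ : IrrCharacter G,
      coeffFun (fun ψ : IrrCharacter G => if ψ = θ then 1 else 0) = f θ := fun θ => by
    funext g
    simp [coeffFun, f, ite_mul]
  have horth : CfsgLib.Chars.conv (f χ) (f χ') = fun _ => 0 := by
    rw [← hcoeff, ← hcoeff, ← coeffFun_mul]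
    funext g
    refine mul_eq_zero_of_right _ (Finset.sum_eq_zero fun ψ _ => ?_)
    simp only [Pi.mul_apply]
    by_cases h1 : ψ = χ
    · rw [if_neg (show ψ ≠ χ' from h1 ▸ hne), mul_zero, zero_mul, zero_mul]
    · rw [if_neg h1, zero_mul, zero_mul, zero_mul]
  have hconv : ∀ c : C, MemLocalIdeal M (CfsgLib.Chars.conv (idem h χ) (idem h χ') c) := by
    intro c
    have h1 := mli_sum_fixed h hM (f := fun y => f χ y * f χ' (y⁻¹ * h.ι c))
      (fun s y => by
        simp only [f]
        rw [hχ s y, show (h.φ s y)⁻¹ * h.ι c = h.φ s (y⁻¹ * h.ι c) by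
          rw [map_mul, map_inv, h.fix], hχ' s])
      (fun y => mlr_mul hM (hfl _ _) (hfl _ _))
    rw [show ∑ y : G, f χ y * f χ' (y⁻¹ * h.ι c) = CfsgLib.Chars.conv (f χ) (f χ') (h.ι c) from rfl,
      horth, zero_sub] at h1
    have h2 := mli_neg h1
    rw [neg_neg] at h2
    convert h2 using 1
    refine Finset.sum_congr rfl fun y _ => ?_
    simp only [idem, f, map_mul, map_inv]
  have h3 := mli_omega hM β (IsClassFunction.conv (idem_isClassFunction h χ) (idem_isClassFunction h χ'))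
    hconv
  rw [omega_conv β (idem_isClassFunction h χ) (idem_isClassFunction h χ')] at h3
  have hidl : ∀ θ : IrrCharacter G, MemLocalRing M (omega (β : C → ℂ) (idem h θ)) := fun θ =>
    mlr_omega hM β (fun a z => idem_isClassFunction h θ a z) fun c => hfl θ (h.ι c)
  have hCd : ¬ p ∣ Nat.card C := fun hd => h.ndvd (hd.trans (card_dvd h))
  have key : ∀ θ : IrrCharacter G, MemLocalIdeal M (omega (β : C → ℂ) (idem h θ)) → p ∣ mult h θ β := by
    intro θ hθ
    have h4 := mli_mul_right hM hθ (mlr_mul hM (mlr_natCast hM (Nat.card G))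
      (mlr_of_isIntegral hM (IsCharacter.isIntegral (isCharacter_irr β) 1)))
    rw [omega_idem h θ β, irr_apply_one, ← Nat.cast_mul, ← Nat.cast_mul, mli_natCast_iff hM] at h4
    rcases (h.prime.dvd_mul).mp h4 with h5 | h5
    · rcases (h.prime.dvd_mul).mp h5 with h6 | h6
      · exact absurd (h6.trans (charDegree_dvd θ)) h.ndvd
      · exact absurd h6 hCd
    · exact h5
  rcases mli_mul_cases hM (hidl χ) (hidl χ') h3 with h4 | h4
  · exact hm (key χ h4)
  · exact hm' (key χ' h4)

/-- The correspondence. -/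
theorem corr (hM : IsPModular p M) :
    (∀ χ : IrrCharacter G, IsInv h.φ (χ : G → ℂ) → ∃! β : IrrCharacter C, ¬ p ∣ mult h χ β) ∧
      (∀ χ : IrrCharacter G, IsInv h.φ (χ : G → ℂ) → ∀ β : IrrCharacter C, ¬ p ∣ mult h χ β →
        ((mult h χ β : ℤ) ≡ 1 [ZMOD p] ∨ (mult h χ β : ℤ) ≡ -1 [ZMOD p])) ∧
      (∀ χ χ' : IrrCharacter G, IsInv h.φ (χ : G → ℂ) → IsInv h.φ (χ' : G → ℂ) →
        ∀ β : IrrCharacter C, ¬ p ∣ mult h χ β → ¬ p ∣ mult h χ' β → χ = χ') ∧
      ∀ β : IrrCharacter C, ∃ χ : IrrCharacter G, IsInv h.φ (χ : G → ℂ) ∧ ¬ p ∣ mult h χ β := by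
  classical
  set I := Finset.univ.filter (fun χ : IrrCharacter G => IsInv h.φ (χ : G → ℂ))
  have hrest : ∀ (β β' : IrrCharacter C) (χ : IrrCharacter G), χ ∈ I → ¬ p ∣ mult h χ β →
      MemLocalIdeal M (((mult h χ β * mult h χ β' : ℕ) : ℂ) - if β = β' then 1 else 0) := by
    intro β β' χ hχ hm
    have h1 := mli_col h hM β β'
    rw [← Finset.add_sum_erase _ _ hχ] at h1
    have h2 : MemLocalIdeal M (∑ θ ∈ I.erase χ, ((mult h θ β * mult h θ β' : ℕ) : ℂ)) := by
      refine mli_sum hM _ fun θ hθ => (mli_natCast_iff hM _).mpr (dvd_mul_of_dvd_left ?_ _)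
      by_contra hθm
      exact Finset.ne_of_mem_erase hθ (eq_of_mult h hM
        (Finset.mem_filter.mp (Finset.mem_of_mem_erase hθ)).2 (Finset.mem_filter.mp hχ).2 hθm hm)
    have h3 := mli_sub hM h1 h2
    convert h3 using 1
    ring
  have hmem : ∀ χ : IrrCharacter G, IsInv h.φ (χ : G → ℂ) → χ ∈ I := fun χ hχ =>
    Finset.mem_filter.mpr ⟨Finset.mem_univ _, hχ⟩
  refine ⟨fun χ hχ => ?_, fun χ hχ β hm => ?_, fun χ χ' hχ hχ' β => eq_of_mult h hM hχ hχ',
    fun β => ?_⟩
  · obtain ⟨β, hβ⟩ := exists_mult_not_dvd h hM hχ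
    refine ⟨β, hβ, fun β' hβ' => ?_⟩
    by_contra hne
    have h1 := hrest β β' χ (hmem χ hχ) hβ
    rw [if_neg (Ne.symm hne), sub_zero, mli_natCast_iff hM, h.prime.dvd_mul] at h1
    exact h1.elim hβ hβ'
  · have h1 := hrest β β χ (hmem χ hχ) hm
    rw [if_pos rfl] at h1
    haveI : Fact p.Prime := ⟨h.prime⟩
    set m : ℤ := (mult h χ β : ℤ) with hmdef
    have h2 : (p : ℤ) ∣ m * m - 1 := by
      refine (mli_intCast_iff hM _).mp ?_
      convert h1 using 1
      push_cast [hmdef]
      ring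
    rw [show m * m - 1 = (m - 1) * (m - -1) by ring] at h2
    exact ((Nat.prime_iff_prime_int.mp h.prime).dvd_mul.mp h2).imp
      (fun h3 => (Int.modEq_iff_dvd.mpr h3).symm) (fun h3 => (Int.modEq_iff_dvd.mpr h3).symm)
  · by_contra hn
    push Not at hn
    have h1 := mli_col h hM β β
    rw [if_pos rfl] at h1
    have h2 : MemLocalIdeal M (∑ χ ∈ I, ((mult h χ β * mult h χ β : ℕ) : ℂ)) :=
      mli_sum hM _ fun χ hχ => (mli_natCast_iff hM _).mpr
        (dvd_mul_of_dvd_left (hn χ (Finset.mem_filter.mp hχ).2) _)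
    have h3 := mli_sub hM h2 h1
    rw [sub_sub_cancel] at h3
    exact not_mli_one hM h3

end CfsgLib.Chars.Glauberman
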