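import Cfsg.Agent.Lib.Chars.GlaubermanCorr
import Mathlib.GroupTheory.Solvable
import Mathlib.GroupTheory.QuotientGroup.Basic
import Mathlib.GroupTheory.PGroup

/-!
Invariant characters against invariant classes for a coprime solvable action.
-/

set_option autoImplicit false
set_option linter.style.haveILetI false

namespace CfsgLib.Chars.Glauberman

open Cfsg CfsgLib.Chars CfsgLib.Blocks

universe u w

/-- Invariance of a conjugacy class. -/
def IsInvClass {G : Type u} {S : Type w} [Group G] [Group S] (φ : S →* MulAut G) (g : G) : Prop :=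
  ∀ s, IsConj g (φ s g)

theorem isInvClass_of_isConj {G : Type u} {S : Type w} [Group G] [Group S] (φ : S →* MulAut G)
    {a b : G} (hab : IsConj a b) (ha : IsInvClass φ a) : IsInvClass φ b := fun s =>
  hab.symm.trans ((ha s).trans ((φ s).toMonoidHom.map_isConj hab))

/-- The invariant classes. -/
def invClasses {G : Type u} {S : Type w} [Group G] [Group S] (φ : S →* MulAut G) : Type u :=
  {K : ConjClasses G // ∀ g, ConjClasses.mk g = K → IsInvClass φ g}

/-- A nontrivial solvable group has a nontrivial normal `p`-subgroup. -/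
theorem exists_normal_pGroup {S : Type w} [Group S] [Finite S] [Group.IsSolvable S]
    [Nontrivial S] : ∃ (p : ℕ) (N : Subgroup S), p.Prime ∧ N.Normal ∧ IsPGroup p N ∧ N ≠ ⊥ := by
  classical
  obtain ⟨n, hn⟩ := Group.IsSolvable.solvable (G := S)
  have hex : ∃ m, derivedSeries S m = ⊥ := ⟨n, hn⟩
  obtain ⟨m, hm⟩ : ∃ m, Nat.find hex = m + 1 := by
    refine ⟨Nat.find hex - 1, ?_⟩
    have : Nat.find hex ≠ 0 := fun h0 => by
      have h1 := Nat.find_spec hex
      rw [h0, derivedSeries_zero] at h1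
      exact (bot_ne_top (α := Subgroup S)) h1.symm
    omega
  have hA : derivedSeries S (m + 1) = ⊥ := hm ▸ Nat.find_spec hex
  have hA0 : derivedSeries S m ≠ ⊥ := Nat.find_min hex (by omega)
  set A := derivedSeries S m with hAdef
  haveI : A.Normal := derivedSeries_normal S m
  have hcomm : ∀ a ∈ A, ∀ b ∈ A, Commute a b := fun a ha b hb =>
    commutatorElement_eq_one_iff_commute.mp (Subgroup.mem_bot.mp
      (hA ▸ Subgroup.commutator_mem_commutator ha hb))
  obtain ⟨p, hp, hd⟩ := Nat.exists_prime_and_dvd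
    (show Nat.card A ≠ 1 from fun h => hA0 (Subgroup.card_eq_one.mp h))
  haveI : Fact p.Prime := ⟨hp⟩
  let N : Subgroup S :=
    { carrier := {a | a ∈ A ∧ a ^ p = 1}
      one_mem' := ⟨one_mem A, one_pow p⟩
      mul_mem' := fun {a b} ha hb =>
        ⟨mul_mem ha.1 hb.1, by rw [(hcomm a ha.1 b hb.1).mul_pow, ha.2, hb.2, one_mul]⟩
      inv_mem' := fun {a} ha => ⟨inv_mem ha.1, by rw [inv_pow, ha.2, inv_one]⟩ }
  refine ⟨p, N, hp, ⟨fun a ha s => ⟨Subgroup.Normal.conj_mem inferInstance a ha.1 s, ?_⟩⟩, ?_, ?_⟩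
  · rw [conj_pow, ha.2, mul_one, mul_inv_cancel]
  · exact fun a => ⟨1, Subtype.ext (by rw [pow_one]; exact a.2.2)⟩
  · obtain ⟨a, ha⟩ := exists_prime_orderOf_dvd_card' p hd
    intro hN
    have h1 : (a : S) ∈ N := ⟨a.2, by rw [← SubgroupClass.coe_pow, ← ha, pow_orderOf_eq_one, OneMemClass.coe_one]⟩
    rw [hN, Subgroup.mem_bot] at h1
    rw [show a = 1 from Subtype.ext h1, orderOf_one] at ha
    exact hp.ne_one ha.symm

/-- The count of invariant irreducible characters. -/
theorem card_inv_eq (n : ℕ) : ∀ (G : Type u) (S : Type w) [Group G] [Group S] [Finite G] [Finite S]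
    [Group.IsSolvable S] (φ : S →* MulAut G), Nat.card S ≤ n →
    (Nat.card G).Coprime (Nat.card S) →
    Nat.card {χ : IrrCharacter G // IsInv φ (χ : G → ℂ)} = Nat.card (invClasses φ) := by
  induction n with
  | zero => intro G S _ _ _ _ _ φ hn; exact absurd (Nat.card_pos (α := S)) (by omega)
  | succ n ih =>
  intro G S _ _ _ _ _ φ hn hcop
  classical
  haveI : Fintype G := Fintype.ofFinite G
  rcases subsingleton_or_nontrivial S with hS | hS
  · have h1 : ∀ (s : S) (g : G), φ s g = g := fun s g => by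
      rw [Subsingleton.elim s 1, map_one]; rfl
    have e1 : Nat.card {χ : IrrCharacter G // IsInv φ (χ : G → ℂ)} = Nat.card (IrrCharacter G) :=
      Nat.card_congr (Equiv.subtypeUnivEquiv fun χ s g => congrArg _ (h1 s g))
    have e2 : Nat.card (invClasses φ) = Nat.card (ConjClasses G) :=
      Nat.card_congr (Equiv.subtypeUnivEquiv fun K g _ s => by rw [h1 s g])
    rw [e1, e2, card_irr]
  obtain ⟨p, N, hp, hNn, hNp, hN0⟩ := exists_normal_pGroup (S := S)
  haveI := hNn
  haveI : Fact p.Prime := ⟨hp⟩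
  have hpS : p ∣ Nat.card S := by
    obtain ⟨k, hk⟩ := IsPGroup.iff_card.mp hNp
    refine dvd_trans ?_ N.card_subgroup_dvd_card
    rw [hk]
    refine dvd_pow_self p fun h0 => hN0 (Subgroup.card_eq_one.mp ?_)
    rw [hk, h0, pow_zero]
  have hpG : ¬ p ∣ Nat.card G := fun hd => hp.ne_one (by
    have := Nat.Coprime.of_dvd hd hpS hcop
    simpa using this)
  obtain ⟨M, hM⟩ := exists_isPModular hp
  -- the fixed points of `N`
  let C : Subgroup G :=
    { carrier := {g | ∀ x ∈ N, φ x g = g}
      one_mem' := fun x _ => map_one _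
      mul_mem' := fun {a b} ha hb x hx => by rw [map_mul, ha x hx, hb x hx]
      inv_mem' := fun {a} ha x hx => by rw [map_inv, ha x hx] }
  have hstab : ∀ (s : S) (c : C), φ s (c : G) ∈ C := fun s c x hx => by
    have h1 := c.2 (s⁻¹ * x * s) (by simpa using hNn.conj_mem x hx s⁻¹)
    calc φ x (φ s (c : G)) = φ (s * (s⁻¹ * x * s)) (c : G) := by
          rw [← MulAut.mul_apply, ← map_mul]; congr 2; group
      _ = φ s (c : G) := by rw [map_mul, MulAut.mul_apply, h1]
  have hinvl : ∀ (s : S) (g : G), φ s⁻¹ (φ s g) = g := fun s g => by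
    rw [← MulAut.mul_apply, ← map_mul, inv_mul_cancel, map_one]; rfl
  have hinvr : ∀ (s : S) (g : G), φ s (φ s⁻¹ g) = g := fun s g => by
    rw [← MulAut.mul_apply, ← map_mul, mul_inv_cancel, map_one]; rfl
  let ψ : S →* MulAut C :=
    { toFun := fun s =>
        { toFun := fun c => ⟨φ s (c : G), hstab s c⟩
          invFun := fun c => ⟨φ s⁻¹ (c : G), hstab s⁻¹ c⟩
          left_inv := fun c => Subtype.ext (hinvl s c)
          right_inv := fun c => Subtype.ext (hinvr s c)
          map_mul' := fun a b => Subtype.ext (map_mul (φ s) (a : G) b) }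
      map_one' := MulEquiv.ext fun c => Subtype.ext
        (show φ 1 (c : G) = c by rw [map_one]; rfl)
      map_mul' := fun s t => MulEquiv.ext fun c => Subtype.ext
        (show φ (s * t) (c : G) = φ s (φ t (c : G)) by rw [map_mul]; rfl) }
  have hψN : N ≤ ψ.ker := fun x hx => MonoidHom.mem_ker.mpr
    (MulEquiv.ext fun c => Subtype.ext (c.2 x hx))
  let ψ' : S ⧸ N →* MulAut C := QuotientGroup.lift N ψ hψN
  haveI : Fintype C := Fintype.ofFinite C
  let h : Setting G C N p :=
    { φ := φ.comp N.subtype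
      ι := C.subtype
      inj := C.subtype_injective
      mem := fun g => ⟨fun hg => ⟨⟨g, fun x hx => hg ⟨x, hx⟩⟩, rfl⟩,
        fun ⟨c, hc⟩ s => hc ▸ c.2 (s : S) s.2⟩
      pgroup := hNp
      prime := hp
      ndvd := hpG }
  obtain ⟨h1, -, h3, h4⟩ := corr h hM
  -- smaller quotient
  have hlt : Nat.card (S ⧸ N) ≤ n := by
    have h5 := N.card_eq_card_quotient_mul_card_subgroup
    have h6 : 2 ≤ Nat.card N := by
      by_contra h7
      have : 0 < Nat.card N := Nat.card_pos
      exact hN0 (Subgroup.card_eq_one.mp (by omega))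
    have : 0 < Nat.card (S ⧸ N) := Nat.card_pos
    nlinarith
  have hIH := ih C (S ⧸ N) ψ' hlt
    ((hcop.coprime_dvd_left C.card_subgroup_dvd_card).coprime_dvd_right
      (N.card_eq_card_quotient_mul_card_subgroup ▸ dvd_mul_right _ _))
  have hN_of : ∀ {χ : IrrCharacter G}, IsInv φ (χ : G → ℂ) → IsInv h.φ (χ : G → ℂ) :=
    fun hχ s g => hχ (s : S) g
  have hmult : ∀ (s : S) (χ χ' : IrrCharacter G) (β β' : IrrCharacter C),
      (∀ g, (χ' : G → ℂ) g = (χ : G → ℂ) (φ s g)) → (∀ c, (β' : C → ℂ) c = (β : C → ℂ) (ψ s c)) →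
        mult h χ' β' = mult h χ β := by
    intro s χ χ' β β' hχ hβ
    apply Nat.cast_injective (R := ℂ)
    rw [← mult_spec, ← mult_spec, classInner, classInner]
    congr 1
    refine Fintype.sum_equiv (ψ s).toEquiv _ _ fun c => ?_
    change (χ' : G → ℂ) (c : G) * _ = (χ : G → ℂ) (φ s (c : G)) * _
    rw [hχ, hβ]
    rfl
  have hψinv : ∀ β : IrrCharacter C, IsInv ψ' (β : C → ℂ) ↔ ∀ s c, (β : C → ℂ) (ψ s c) = (β : C → ℂ) c :=
    fun β => ⟨fun hb s c => hb (QuotientGroup.mk s) c, fun hb q c => by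
      obtain ⟨s, rfl⟩ := QuotientGroup.mk_surjective q
      exact hb s c⟩
  have hchars : Nat.card {χ : IrrCharacter G // IsInv φ (χ : G → ℂ)} =
      Nat.card {β : IrrCharacter C // IsInv ψ' (β : C → ℂ)} := by
    choose f hf hfu using fun χ : {χ : IrrCharacter G // IsInv φ (χ : G → ℂ)} => h1 χ.1 (hN_of χ.2)
    have hfinv : ∀ χ, IsInv ψ' (f χ : C → ℂ) := fun χ => (hψinv _).mpr fun s c => by
      let β' : IrrCharacter C := ⟨fun c => (f χ : C → ℂ) (ψ s c),
        IsIrrCharacter.comp (f χ).2 (ψ s).toMonoidHom (ψ s).surjective⟩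
      have e := hmult s χ.1 χ.1 (f χ) β' (fun g => (χ.2 s g).symm) (fun _ => rfl)
      exact congrFun (congrArg Subtype.val (hfu χ β' (show ¬ p ∣ mult h χ.1 β' by rw [e]; exact hf χ))) c
    refine Nat.card_congr (Equiv.ofBijective (fun χ => ⟨f χ, hfinv χ⟩) ⟨fun χ χ' e => ?_, fun β => ?_⟩)
    · have e' : f χ = f χ' := congrArg Subtype.val e
      exact Subtype.ext (h3 χ.1 χ'.1 (hN_of χ.2) (hN_of χ'.2) (f χ) (hf χ) (e' ▸ hf χ'))
    · obtain ⟨χ, hχ, hm⟩ := h4 β.1
      have hinv : IsInv φ (χ : G → ℂ) := fun s g => by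
        let χ' : IrrCharacter G := ⟨fun g => (χ : G → ℂ) (φ s g),
          IsIrrCharacter.comp χ.2 (φ s).toMonoidHom (φ s).surjective⟩
        have hχ' : IsInv h.φ (χ' : G → ℂ) := fun x g => by
          change (χ : G → ℂ) (φ s (φ (x : S) g)) = (χ : G → ℂ) (φ s g)
          rw [← MulAut.mul_apply, ← map_mul, show s * (x : S) = s * x * s⁻¹ * s by group, map_mul,
            MulAut.mul_apply]
          exact hχ ⟨_, hNn.conj_mem x x.2 s⟩ _
        have e := hmult s χ χ' β.1 β.1 (fun _ => rfl) (fun c => ((hψinv β.1).mp β.2 s c).symm)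
        exact congrFun (congrArg Subtype.val
          (h3 χ' χ hχ' hχ β.1 (show ¬ p ∣ mult h χ' β.1 by rw [e]; exact hm) hm)) g
      exact ⟨⟨χ, hinv⟩, Subtype.ext (hfu ⟨χ, hinv⟩ β.1 hm).symm⟩
  have hcls : Nat.card (invClasses φ) = Nat.card (invClasses ψ') := by
    have hiff : ∀ c : C, IsInvClass φ (c : G) ↔ IsInvClass ψ' c := fun c => by
      constructor
      · intro hc q
        obtain ⟨s, rfl⟩ := QuotientGroup.mk_surjective q
        exact (isConj_iff_fixed h c (ψ s c)).mp (hc s)
      · intro hc s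
        exact (isConj_iff_fixed h c (ψ s c)).mpr (hc (QuotientGroup.mk s))
    refine (Nat.card_congr (Equiv.ofBijective
      (fun K : invClasses ψ' => (⟨ConjClasses.map C.subtype K.1, fun g hg => ?_⟩ : invClasses φ))
      ⟨fun K K' e => ?_, fun K => ?_⟩)).symm
    · obtain ⟨c, hc⟩ := ConjClasses.mk_surjective K.1
      rw [← hc] at hg
      exact isInvClass_of_isConj φ (ConjClasses.mk_eq_mk_iff_isConj.mp hg).symm
        ((hiff c).mpr (K.2 c hc))
    · obtain ⟨c, hc⟩ := ConjClasses.mk_surjective K.1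
      obtain ⟨c', hc'⟩ := ConjClasses.mk_surjective K'.1
      have e' : ConjClasses.map C.subtype K.1 = ConjClasses.map C.subtype K'.1 :=
        congrArg Subtype.val e
      rw [← hc, ← hc'] at e'
      refine Subtype.ext ?_
      rw [← hc, ← hc']
      exact ConjClasses.mk_eq_mk_iff_isConj.mpr
        ((isConj_iff_fixed h c c').mp (ConjClasses.mk_eq_mk_iff_isConj.mp e'))
    · obtain ⟨g, hg⟩ := ConjClasses.mk_surjective K.1
      have hK := K.2 g hg
      letI : MulAction N {x : G // IsConj g x} :=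
        { smul := fun x y => ⟨φ (x : S) y.1, (hK (x : S)).trans ((φ (x : S)).toMonoidHom.map_isConj y.2)⟩
          one_smul := fun y => Subtype.ext (show φ ((1 : N) : S) y.1 = y.1 by rw [OneMemClass.coe_one, map_one]; rfl)
          mul_smul := fun x x' y => Subtype.ext (show φ ((x * x' : N) : S) y.1 = φ (x : S) (φ (x' : S) y.1) by
            rw [Subgroup.coe_mul, map_mul]; rfl) }
      have hcard : ¬ p ∣ Nat.card {x : G // IsConj g x} := fun hd => hpG (hd.trans (by
        have h2 := MulAction.index_stabilizer (ConjAct G) g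
        rw [ConjAct.stabilizer_eq_centralizer, ConjAct.orbit_eq_carrier_conjClasses] at h2
        have h3' : Nat.card {x : G // IsConj g x} = (ConjClasses.mk g).carrier.ncard := by
          rw [← Nat.card_coe_set_eq]
          refine Nat.card_congr (Equiv.subtypeEquivRight fun x => ?_)
          rw [ConjClasses.mem_carrier_iff_mk_eq, ConjClasses.mk_eq_mk_iff_isConj]
          exact ⟨IsConj.symm, IsConj.symm⟩
        rw [h3', ← h2]
        exact Subgroup.index_dvd_card _))
      obtain ⟨⟨y, hy⟩, hfix⟩ := hNp.nonempty_fixed_point_of_prime_not_dvd_card _ hcard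
      let c : C := ⟨y, fun x hx => congrArg Subtype.val (hfix ⟨x, hx⟩)⟩
      refine ⟨⟨ConjClasses.mk c, fun c' hc' => ?_⟩, Subtype.ext ?_⟩
      · exact isInvClass_of_isConj ψ' (ConjClasses.mk_eq_mk_iff_isConj.mp hc').symm
          ((hiff c).mp (isInvClass_of_isConj φ hy hK))
      · exact (ConjClasses.mk_eq_mk_iff_isConj.mpr hy.symm).trans hg
  rw [hchars, hcls]
  exact hIH

end CfsgLib.Chars.Glauberman
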