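import Cfsg.Agent.Lib.Chars.GlaubermanCount

/-!
Invariant characters against the characters of the fixed points.
-/

set_option autoImplicit false
set_option linter.style.haveILetI false

namespace CfsgLib.Chars.Glauberman

open Cfsg CfsgLib.Chars CfsgLib.Blocks

universe u w

/-- Isomorphic groups have equally many irreducible characters. -/
theorem card_irr_congr {G H : Type u} [Group G] [Group H] (e : G ≃* H) :
    Nat.card (IrrCharacter G) = Nat.card (IrrCharacter H) :=
  Nat.card_congr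
    { toFun := fun χ => ⟨fun x => (χ : G → ℂ) (e.symm x),
        IsIrrCharacter.comp χ.2 e.symm.toMonoidHom e.symm.surjective⟩
      invFun := fun χ => ⟨fun x => (χ : H → ℂ) (e x),
        IsIrrCharacter.comp χ.2 e.toMonoidHom e.surjective⟩
      left_inv := fun χ => Subtype.ext (funext fun x => congrArg _ (e.symm_apply_apply x))
      right_inv := fun χ => Subtype.ext (funext fun x => congrArg _ (e.apply_symm_apply x)) }

/-- The count of invariant irreducible characters through the fixed points. -/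
theorem card_inv_eq_fixed (n : ℕ) : ∀ (G : Type u) (S : Type w) [Group G] [Group S] [Finite G] [Finite S]
    [Group.IsSolvable S] (φ : S →* MulAut G), Nat.card S ≤ n →
    (Nat.card G).Coprime (Nat.card S) → ∀ (F : Subgroup G), (∀ g, g ∈ F ↔ ∀ s, φ s g = g) →
    Nat.card {χ : IrrCharacter G // IsInv φ (χ : G → ℂ)} = Nat.card (IrrCharacter F) := by
  induction n with
  | zero => intro G S _ _ _ _ _ φ hn; exact absurd (Nat.card_pos (α := S)) (by omega)
  | succ n ih =>
  intro G S _ _ _ _ _ φ hn hcop F hF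
  classical
  haveI : Fintype G := Fintype.ofFinite G
  rcases subsingleton_or_nontrivial S with hS | hS
  · have h1 : ∀ (s : S) (g : G), φ s g = g := fun s g => by
      rw [Subsingleton.elim s 1, map_one]; rfl
    have e1 : Nat.card {χ : IrrCharacter G // IsInv φ (χ : G → ℂ)} = Nat.card (IrrCharacter G) :=
      Nat.card_congr (Equiv.subtypeUnivEquiv fun χ s g => congrArg _ (h1 s g))
    have hT : F = ⊤ := Subgroup.eq_top_iff' F |>.mpr fun g => (hF g).mpr fun s => h1 s g
    rw [e1]
    exact (card_irr_congr ((MulEquiv.subgroupCongr hT).trans Subgroup.topEquiv)).symm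
  obtain ⟨p, N, hp, hNn, hNp, hN0⟩ := exists_normal_pGroup (S := S)
  haveI := hNn
  haveI : Fact p.Prime := ⟨hp⟩
  have hpS : p ∣ Nat.card S := by
    obtain ⟨k, hk⟩ := IsPGroup.iff_card.mp hNp
    refine dvd_trans ?_ N.card_subgroup_dvd_card
    rw [hk]
    refine dvd_pow_self p fun h0 => hN0 (Subgroup.card_eq_one.mp ?_)
    rw [hk, h0, pow_zero]
  have hpG : ¬ p ∣ Nat.card G := fun hd => hp.ne_one (by
    have := Nat.Coprime.of_dvd hd hpS hcop
    simpa using this)
  obtain ⟨M, hM⟩ := exists_isPModular hp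
  -- the fixed points of `N`
  let C : Subgroup G :=
    { carrier := {g | ∀ x ∈ N, φ x g = g}
      one_mem' := fun x _ => map_one _
      mul_mem' := fun {a b} ha hb x hx => by rw [map_mul, ha x hx, hb x hx]
      inv_mem' := fun {a} ha x hx => by rw [map_inv, ha x hx] }
  have hstab : ∀ (s : S) (c : C), φ s (c : G) ∈ C := fun s c x hx => by
    have h1 := c.2 (s⁻¹ * x * s) (by simpa using hNn.conj_mem x hx s⁻¹)
    calc φ x (φ s (c : G)) = φ (s * (s⁻¹ * x * s)) (c : G) := by
          rw [← MulAut.mul_apply, ← map_mul]; congr 2; group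
      _ = φ s (c : G) := by rw [map_mul, MulAut.mul_apply, h1]
  have hinvl : ∀ (s : S) (g : G), φ s⁻¹ (φ s g) = g := fun s g => by
    rw [← MulAut.mul_apply, ← map_mul, inv_mul_cancel, map_one]; rfl
  have hinvr : ∀ (s : S) (g : G), φ s (φ s⁻¹ g) = g := fun s g => by
    rw [← MulAut.mul_apply, ← map_mul, mul_inv_cancel, map_one]; rfl
  let ψ : S →* MulAut C :=
    { toFun := fun s =>
        { toFun := fun c => ⟨φ s (c : G), hstab s c⟩
          invFun := fun c => ⟨φ s⁻¹ (c : G), hstab s⁻¹ c⟩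
          left_inv := fun c => Subtype.ext (hinvl s c)
          right_inv := fun c => Subtype.ext (hinvr s c)
          map_mul' := fun a b => Subtype.ext (map_mul (φ s) (a : G) b) }
      map_one' := MulEquiv.ext fun c => Subtype.ext
        (show φ 1 (c : G) = c by rw [map_one]; rfl)
      map_mul' := fun s t => MulEquiv.ext fun c => Subtype.ext
        (show φ (s * t) (c : G) = φ s (φ t (c : G)) by rw [map_mul]; rfl) }
  have hψN : N ≤ ψ.ker := fun x hx => MonoidHom.mem_ker.mpr
    (MulEquiv.ext fun c => Subtype.ext (c.2 x hx))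
  let ψ' : S ⧸ N →* MulAut C := QuotientGroup.lift N ψ hψN
  haveI : Fintype C := Fintype.ofFinite C
  let h : Setting G C N p :=
    { φ := φ.comp N.subtype
      ι := C.subtype
      inj := C.subtype_injective
      mem := fun g => ⟨fun hg => ⟨⟨g, fun x hx => hg ⟨x, hx⟩⟩, rfl⟩,
        fun ⟨c, hc⟩ s => hc ▸ c.2 (s : S) s.2⟩
      pgroup := hNp
      prime := hp
      ndvd := hpG }
  obtain ⟨h1, -, h3, h4⟩ := corr h hM
  -- smaller quotient
  have hlt : Nat.card (S ⧸ N) ≤ n := by
    have h5 := N.card_eq_card_quotient_mul_card_subgroup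
    have h6 : 2 ≤ Nat.card N := by
      by_contra h7
      have : 0 < Nat.card N := Nat.card_pos
      exact hN0 (Subgroup.card_eq_one.mp (by omega))
    have : 0 < Nat.card (S ⧸ N) := Nat.card_pos
    nlinarith
  have hFC : F ≤ C := fun g hg x _ => (hF g).mp hg x
  have hIH := ih C (S ⧸ N) ψ' hlt
    ((hcop.coprime_dvd_left C.card_subgroup_dvd_card).coprime_dvd_right
      (N.card_eq_card_quotient_mul_card_subgroup ▸ dvd_mul_right _ _)) (F.subgroupOf C) (fun c => by
      rw [Subgroup.mem_subgroupOf, hF]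
      refine ⟨fun hc q => ?_, fun hc s => congrArg Subtype.val (hc (QuotientGroup.mk s))⟩
      obtain ⟨s, rfl⟩ := QuotientGroup.mk_surjective q
      exact Subtype.ext (hc s))
  have hN_of : ∀ {χ : IrrCharacter G}, IsInv φ (χ : G → ℂ) → IsInv h.φ (χ : G → ℂ) :=
    fun hχ s g => hχ (s : S) g
  have hmult : ∀ (s : S) (χ χ' : IrrCharacter G) (β β' : IrrCharacter C),
      (∀ g, (χ' : G → ℂ) g = (χ : G → ℂ) (φ s g)) → (∀ c, (β' : C → ℂ) c = (β : C → ℂ) (ψ s c)) →
        mult h χ' β' = mult h χ β := by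
    intro s χ χ' β β' hχ hβ
    apply Nat.cast_injective (R := ℂ)
    rw [← mult_spec, ← mult_spec, classInner, classInner]
    congr 1
    refine Fintype.sum_equiv (ψ s).toEquiv _ _ fun c => ?_
    change (χ' : G → ℂ) (c : G) * _ = (χ : G → ℂ) (φ s (c : G)) * _
    rw [hχ, hβ]
    rfl
  have hψinv : ∀ β : IrrCharacter C, IsInv ψ' (β : C → ℂ) ↔ ∀ s c, (β : C → ℂ) (ψ s c) = (β : C → ℂ) c :=
    fun β => ⟨fun hb s c => hb (QuotientGroup.mk s) c, fun hb q c => by
      obtain ⟨s, rfl⟩ := QuotientGroup.mk_surjective q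
      exact hb s c⟩
  have hchars : Nat.card {χ : IrrCharacter G // IsInv φ (χ : G → ℂ)} =
      Nat.card {β : IrrCharacter C // IsInv ψ' (β : C → ℂ)} := by
    choose f hf hfu using fun χ : {χ : IrrCharacter G // IsInv φ (χ : G → ℂ)} => h1 χ.1 (hN_of χ.2)
    have hfinv : ∀ χ, IsInv ψ' (f χ : C → ℂ) := fun χ => (hψinv _).mpr fun s c => by
      let β' : IrrCharacter C := ⟨fun c => (f χ : C → ℂ) (ψ s c),
        IsIrrCharacter.comp (f χ).2 (ψ s).toMonoidHom (ψ s).surjective⟩
      have e := hmult s χ.1 χ.1 (f χ) β' (fun g => (χ.2 s g).symm) (fun _ => rfl)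
      exact congrFun (congrArg Subtype.val (hfu χ β' (show ¬ p ∣ mult h χ.1 β' by rw [e]; exact hf χ))) c
    refine Nat.card_congr (Equiv.ofBijective (fun χ => ⟨f χ, hfinv χ⟩) ⟨fun χ χ' e => ?_, fun β => ?_⟩)
    · have e' : f χ = f χ' := congrArg Subtype.val e
      exact Subtype.ext (h3 χ.1 χ'.1 (hN_of χ.2) (hN_of χ'.2) (f χ) (hf χ) (e' ▸ hf χ'))
    · obtain ⟨χ, hχ, hm⟩ := h4 β.1
      have hinv : IsInv φ (χ : G → ℂ) := fun s g => by
        let χ' : IrrCharacter G := ⟨fun g => (χ : G → ℂ) (φ s g),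
          IsIrrCharacter.comp χ.2 (φ s).toMonoidHom (φ s).surjective⟩
        have hχ' : IsInv h.φ (χ' : G → ℂ) := fun x g => by
          change (χ : G → ℂ) (φ s (φ (x : S) g)) = (χ : G → ℂ) (φ s g)
          rw [← MulAut.mul_apply, ← map_mul, show s * (x : S) = s * x * s⁻¹ * s by group, map_mul,
            MulAut.mul_apply]
          exact hχ ⟨_, hNn.conj_mem x x.2 s⟩ _
        have e := hmult s χ χ' β.1 β.1 (fun _ => rfl) (fun c => ((hψinv β.1).mp β.2 s c).symm)
        exact congrFun (congrArg Subtype.val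
          (h3 χ' χ hχ' hχ β.1 (show ¬ p ∣ mult h χ' β.1 by rw [e]; exact hm) hm)) g
      exact ⟨⟨χ, hinv⟩, Subtype.ext (hfu ⟨χ, hinv⟩ β.1 hm).symm⟩
  rw [hchars, hIH]
  exact card_irr_congr (Subgroup.subgroupOfEquivOfLe hFC)

end CfsgLib.Chars.Glauberman
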